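import Cfsg.Agent.Mrg.Omega.NO3S.WY.Tor.Lit
import Cfsg.Agent.Mrg.Omega.OM.LowT.Full
import Cfsg.Agent.Mrg.Omega.OM.SWT.CaseLS
import Cfsg.Agent.Mrg.Omega.OM.Lev.Low.TorusK.Inst
import Cfsg.Agent.Mrg.Omega.Node.SymG
import Cfsg.Agent.Mrg.Omega.OM.LowT.LinGen
import Cfsg.Agent.Mrg.Omega.OM.LowT.TwoMain
import Cfsg.Agent.Mrg.Omega.OM.Lev.Low.PushRes

-- merged: Cfsg.Agent.Mrg.Omega.NO3S.WY.FinOf
section

/-!
# NoW, `q = 2`: the finite stages

`¬ J(S) ≤ O₂(Y)` is the stage `0`.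

* `LinOf K` : (LIN) at the stage `0` for the maximal `Y`;
* `LowEnd k` : the end of the torus configuration, over `SWT.Ln` + `Bg` + (LIN);
* **`finP_of : LinOf K → LowEnd 2 → (∀ k ≥ 3, LowEnd k) → FinP K`**.
-/

set_option autoImplicit false
set_option linter.unusedSectionVars false
set_option linter.dupNamespace false

namespace Cfsg.Agent.Omega.NO3S.WY.FinOf

open Subgroup Cfsg Cfsg.Agent.ZN Cfsg.Agent.ZN.ChoiceBase Cfsg.Agent.Omega.MinPar Cfsg.Agent.Omega.Frame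
open Cfsg.Agent.ZN.ChoiceSit (Syl)
open Cfsg.Agent.MinSimple.MinParabolic (IsMinPar)
open Cfsg.Agent.Omega.NO3S.Level
open Cfsg.Agent.Omega.Frame (Cls)
open Cfsg.Agent.Omega.OM
open Cfsg.Agent.Omega.OM.SWT (LV Ln ZT BT)
open Cfsg.Agent.Omega.OM.LowT (LinH)
open Cfsg.Agent.Omega.NO3S.EThree.Frame (Bg)
open Cfsg.Agent.Omega.Node.MultiOf Cfsg.Agent.Omega.Node.MulG
open Cfsg.Agent.Omega.Node.MulX (MulL KX)
open Cfsg.Agent.Omega.NO3S.WY.Sel (Wd Mx FinP zc_B)

universe u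

/-- **(LIN) at the stage `0`** for the maximal `Y`. -/
def LinOf (K : Cls.{u}) : Prop :=
  ∀ (G : Type u) [Group G] [Finite G], K G → ∀ (S : Sylow 2 G) (P B ZJ : Subgroup G) (k : ℕ)
    (L W Z C A : Fin k → Subgroup G), 2 ≤ k → MulL S P B ZJ L W Z C A 2 →
      NLoc (KX B ZJ (zl (S : Subgroup G) P)) → ∀ (j : Fin k) (Y : Subgroup G), Wd S P B ZJ Z j Y →
        Mx S P B ZJ Z Y → ¬ jj (S : Subgroup G) ≤ o2 Y → LinH S P B Y 0

/-- **The end of the finite stages**: over the frame `SWT.Ln` with (LIN), a parabolic of stage `j` over `B` centralises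
`Ω₁Z(B)`. -/
def LowEnd (k : ℕ) : Prop :=
  ∀ (G : Type u) [Group G] [Finite G] (S : Sylow 2 G) (P : Subgroup G) (n : LV S) (L W Z C A : Fin k → Subgroup G),
    Ln P n L W Z C A 2 → Bg S P (BT n) (ZT n) L W Z C 2 → (∀ R, IsParS (S : Subgroup G) R → n.K ≤ o2 R) →
      ∀ R : Subgroup G, IsMinPar (BT n) R → Syl (BT n) R → R ⊓ centralizer (o2 R : Set G) ≤ o2 R →
        ∀ j : ℕ, lev (S : Subgroup G) j ≤ n.K → (∀ i < j, lev (S : Subgroup G) i ≤ o2 R) →
          ¬ lev (S : Subgroup G) j ≤ o2 R → LinH S P (BT n) R j → R ≤ centralizer (zc (BT n) : Set G)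

section mul

variable {G : Type u} [Group G] [Finite G] {S : Sylow 2 G} {P B ZJ : Subgroup G} {k : ℕ}
  {L W Z C A : Fin k → Subgroup G} {q : ℕ} (h : MulL S P B ZJ L W Z C A q)

/-- the top level `O₂(P)` of the case (L) -/
def topL {G : Type u} [Group G] [Finite G] {S : Sylow 2 G} {P : Subgroup G} (h : NO3S.Level.CaseL S P) : LV S :=
  ⟨o2 P, h.levQ⟩

theorem ZT_top : ZT (topL h.cl) = ZJ := h.eZ.symm

theorem BT_top : BT (topL h.cl) = B := h.eqB.symm

/-- the frame `Ln` of the case (L) -/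
theorem ln_top (hk : 2 ≤ k) : Ln P (topL h.cl) L W Z C A q where
  hyp := h.cl.hypN
  le := le_rfl
  fr := by
    rw [BT_top h, ZT_top h]
    show OM.Lev.Uni.FrL B (o2 P) (zl (S : Subgroup G) P) (zc (o2 P)) ZJ L W Z C A q
    rw [h.cl.zc_eq]
    exact h.fr
  two := fun i => by
    have : Nontrivial (Fin k) := Fin.nontrivial_iff_two_le.2 hk
    exact exists_ne i

theorem bg_top : Bg S P (BT (topL h.cl)) (ZT (topL h.cl)) L W Z C q := by
  rw [BT_top h, ZT_top h]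
  exact h.bg

end mul

/-- **The finite stages.** -/
theorem finP_of {K : Cls.{u}} (hL : LinOf K) (h2 : LowEnd.{u} 2) (h3 : ∀ k, 3 ≤ k → LowEnd.{u} k) : FinP K := by
  intro G _ _ hK S P B ZJ k L W Z C A hk hM hN j Y hw hx
  by_contra hj
  have hlin := hL G hK S P B ZJ k L W Z C A hk hM hN j Y hw hx hj
  have hend : LowEnd.{u} k := by
    rcases Nat.lt_or_ge k 3 with h4 | h4
    · obtain rfl : k = 2 := by omega
      exact h2
    · exact h3 k h4
  have hB := BT_top hM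
  refine hw.mv ?_
  have h5 := hend G S P (topL hM.cl) L W Z C A (ln_top hM hk) (bg_top hM) (fun _ hR => hM.cl.o2_le hR) Y
    (hB.symm ▸ hw.par) (hB.symm ▸ hw.syl) hw.c2 0 ((lev_le_lim _ 0).trans hM.cl.lim_le)
    (fun i hi => absurd hi (Nat.not_lt_zero i)) hj (hB.symm ▸ hlin)
  rwa [hB, zc_B hM] at h5

end Cfsg.Agent.Omega.NO3S.WY.FinOf

end

-- merged: Cfsg.Agent.Mrg.Omega.OM.LowT.PlugE
section

/-!
# The torus configuration over a general top level, `q = 2`, `k ≥ 3`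

Port of `OM/Lev/Low/PlugE.lean` from `SwapL.Ln` (top level `lev S n`) to `SWT.Ln` (top level `n : LV S`), and its form
over the case (L) of GammaFF.

* `loc_of` : the local fields `Loc`;
* **`false_of_blk`** : no `Bk0` over `SWT.Ln` + `Bg`, from the torus theorem `TorusOf`;
* `topL`, `ZT_top`, `BT_top`, `ln_top`, `bg_top` : `SWT.Ln`, `Bg` at the top level `O₂(P)` from `MulL`;
* **`false_of_blkL`** : the same over the case (L).
-/

set_option autoImplicit false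
set_option linter.unusedSectionVars false

namespace Cfsg.Agent.Omega.OM.LowT.PlugE

open Subgroup Cfsg Cfsg.Agent.ZN.ChoiceBase Cfsg.Agent.ZN.ChoiceSit
open Cfsg.Agent.ZN (jj zj bau zc zl o2)
open Cfsg.Agent.MinSimple.MinParabolic (IsMinPar)
open Cfsg.Agent.Omega.OM.SWT (LV Ln ZT BT)
open Cfsg.Agent.Omega.NO3S.Level (lev lev_mono lev_isLev)
open Cfsg.Agent.Omega.NO3S.EThree.Frame (Bg)
open Cfsg.Agent.Omega.MinPar (IsParS IsLoc)
open Cfsg.Agent.Omega.OM.Lev.Low.Line (Full full_unique)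
open Cfsg.Agent.Omega.OM.Lev.Low.TorusK (TK BK NA Loc stM stY)
open Cfsg.Agent.Omega.OM.Lev.Low.PlugE (TorusOf)
open Cfsg.Agent.Omega.OM.LowT.TorusK (tk_of bk_of Bk0)
open Cfsg.Agent.Omega.Node.MulX (MulL)

universe u

section loc

variable {G : Type u} [Group G] [Finite G] {ι : Type} [Finite ι] {S : Sylow 2 G} {P : Subgroup G} {n : LV S}
  {L W Z C A : ι → Subgroup G}

/-- **The local fields.** -/
theorem loc_of (hL : Ln P n L W Z C A 2) (hB : Bg S P (BT n) (ZT n) L W Z C 2) (h3 : ∀ l m : ι, ∃ r, r ≠ l ∧ r ≠ m)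
    (hall : ∀ R, IsParS (S : Subgroup G) R → n.K ≤ o2 R) {j : ℕ} (hj : lev (S : Subgroup G) j ≤ n.K) {z : G}
    (hz : z ∈ ZT n) (hzC : ∀ i, z ∉ C i) :
    Loc (S : Subgroup G) (BT n) (ZT n) (LevB.BL (S : Subgroup G) j) (zc (lev (S : Subgroup G) j)) Z z where
  syl := TorusK.LocIn.syl hL hB
  loc1 := TorusK.LocIn.loc1 hB
  loc2 := by
    intro l m hlm
    obtain ⟨E, h1, h2, h4, h5⟩ := TorusK.LocIn.loc2 hB h3 l m hlm
    exact ⟨E, h1, fun e he hc => ⟨h2 he, mem_centralizer_iff.2 fun x hx => (hc x hx).symm⟩, h4, h5⟩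
  fact := by
    obtain ⟨z', hz', hf, hz1, hzS, hu⟩ := TorusK.LocIn.exists_z hL hB
    obtain rfl : z = z' := full_unique hL.fr hz hz' hzC hf
    rintro H hH ⟨U, hU1, hU2, hU3⟩
    exact TorusK.LocIn.fact' S (Lev.Low.TorusK.LocIn.isLoc_of S hH hU1 hU2 hU3) hj hall hzS hz1 hu

end loc

/-- `NA` from `Bk0` -/
theorem na_of {G : Type u} [Group G] [Finite G] {ι : Type} {S : Sylow 2 G} {P : Subgroup G} {n : LV S}
    {L W Z C A : ι → Subgroup G} {R : Subgroup G} {j : ℕ} {K N₁ c : Subgroup G} {τ : G} {l : ι}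
    (h : Bk0 P n L W Z C A R j K N₁ c τ l) : NA (BT n) K (zl (BT n) R) := ⟨h.nK, h.act⟩

/-- **The torus configuration is impossible**, `k ≥ 3`. -/
theorem false_of_blk (hT : TorusOf.{u}) {G : Type u} [Group G] [Finite G] {k : ℕ} (hk : 3 ≤ k) {S : Sylow 2 G}
    {P : Subgroup G} {n : LV S} {L W Z C A : Fin k → Subgroup G}
    (hall : ∀ R, IsParS (S : Subgroup G) R → n.K ≤ o2 R) {R : Subgroup G} {j : ℕ} {K N₁ c : Subgroup G} {τ : G}
    {l : Fin k} (hb : Bk0 P n L W Z C A R j K N₁ c τ l) : False := by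
  obtain ⟨z, hz, hzf⟩ := Lev.Low.Line.exists_full hb.ln.fr
  exact hT G k _ _ _ _ _ _ _ _ _ _ _ _ _ _ _ _ _ _ _ _ _ hk
    (tk_of hb.ln hb.bg hb.jn hz hzf
      (loc_of hb.ln hb.bg (fun l m => Lev.Low.TorusK.LocIn.third hk l m) hall hb.jn hz hzf)) (bk_of hb) (na_of hb)

/-- the top level `O₂(P)` of the case (L) -/
def topL {G : Type u} [Group G] [Finite G] {S : Sylow 2 G} {P : Subgroup G} (h : NO3S.Level.CaseL S P) : LV S :=
  ⟨o2 P, h.levQ⟩

section mul

variable {G : Type u} [Group G] [Finite G] {S : Sylow 2 G} {P B ZJ : Subgroup G} {k : ℕ}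
  {L W Z C A : Fin k → Subgroup G} {q : ℕ} (h : MulL S P B ZJ L W Z C A q)

theorem ZT_top : ZT (topL h.cl) = ZJ := h.eZ.symm

theorem BT_top : BT (topL h.cl) = B := h.eqB.symm

/-- the frame `Ln` of the case (L) -/
theorem ln_top (hk : 2 ≤ k) : Ln P (topL h.cl) L W Z C A q where
  hyp := h.cl.hypN
  le := le_rfl
  fr := by
    rw [BT_top h, ZT_top h]
    show OM.Lev.Uni.FrL B (o2 P) (zl (S : Subgroup G) P) (zc (o2 P)) ZJ L W Z C A q
    rw [h.cl.zc_eq]
    exact h.fr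
  two := fun i => by
    have : Nontrivial (Fin k) := Fin.nontrivial_iff_two_le.2 hk
    exact exists_ne i

theorem bg_top : Bg S P (BT (topL h.cl)) (ZT (topL h.cl)) L W Z C q := by
  rw [BT_top h, ZT_top h]
  exact h.bg

end mul

/-- **The torus configuration is impossible over the case (L)**, `k ≥ 3`. -/
theorem false_of_blkL (hT : TorusOf.{u}) {G : Type u} [Group G] [Finite G] {S : Sylow 2 G} {P : Subgroup G} {k : ℕ}
    (hk : 3 ≤ k) {L W Z C A : Fin k → Subgroup G} (h : NO3S.Level.CaseL S P) {Y : Subgroup G} {j : ℕ}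
    {K N₁ c : Subgroup G} {τ : G} {l : Fin k} (hb : Bk0 P (topL h) L W Z C A Y j K N₁ c τ l) : False :=
  false_of_blk hT hk (fun _ hR => h.o2_le hR) hb

/-- the finite stages lie in `O₂(P)` -/
theorem lev_le_top {G : Type u} [Group G] [Finite G] {S : Sylow 2 G} {P : Subgroup G} (h : NO3S.Level.CaseL S P)
    (m : ℕ) : lev (S : Subgroup G) m ≤ (topL h).K := (NO3S.Level.lev_le_lim _ m).trans h.lim_le

end Cfsg.Agent.Omega.OM.LowT.PlugE

end

-- merged: Cfsg.Agent.Mrg.Omega.NO3S.WY.FinK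
section

/-!
# NoW, `q = 2`, finite stages, `k ≥ 3`

`lowEnd_ge` : `LowEnd k` for `k ≥ 3` from the torus theorem `TorusOf`; `finP_two : LinOf K → LowEnd 2 → FinP K`.
-/

set_option autoImplicit false
set_option linter.unusedSectionVars false
set_option linter.dupNamespace false

namespace Cfsg.Agent.Omega.NO3S.WY.FinOf

open Subgroup Cfsg Cfsg.Agent.ZN Cfsg.Agent.ZN.ChoiceBase Cfsg.Agent.Omega.MinPar Cfsg.Agent.Omega.Frame
open Cfsg.Agent.Omega.Frame (Cls)
open Cfsg.Agent.Omega.OM.Lev.Low.PlugE (TorusOf)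
open Cfsg.Agent.Omega.NO3S.WY.Sel (FinP)

universe u

/-- **`k ≥ 3`.** -/
theorem lowEnd_ge (hT : TorusOf.{u}) (k : ℕ) (hk : 3 ≤ k) : LowEnd.{u} k := by
  intro G _ _ S P n L W Z C A hln hbg hall R hP hR hc j hj hlow hnj hlin
  by_contra hZ
  obtain ⟨K, N₁, c, τ, l, hb⟩ := OM.LowT.Core.exists_blk_at hln hbg hP hR hc hj hlow hnj hZ hlin
  exact OM.LowT.PlugE.false_of_blk hT hk hall hb.bk0

/-- the finite stages from (LIN), the torus theorem and the end for `k = 2` -/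
theorem finP_two {K : Cls.{u}} (hL : LinOf K) (hT : TorusOf.{u}) (h2 : LowEnd.{u} 2) : FinP K :=
  finP_of hL h2 (lowEnd_ge hT)

end Cfsg.Agent.Omega.NO3S.WY.FinOf

end

-- merged: Cfsg.Agent.Mrg.Omega.NO3S.WY.FinDone
section

section


/-!
# NoW, `q = 2`: the finite stages, complete

* `linOf` : **(LIN) at the stage `0`** (366's `linH_of`, 388's `norm_or_lev`);
* `lowEnd_two` : `LowEnd 2` (808's `TwoMain`, `PushRes`);
* **`finP : FinP K`**, for every class `K`, no hypotheses.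
-/

set_option autoImplicit false
set_option linter.unusedSectionVars false
set_option linter.dupNamespace false

namespace Cfsg.Agent.Omega.NO3S.WY.FinOf

open Subgroup Cfsg Cfsg.Agent.ZN Cfsg.Agent.ZN.ChoiceBase Cfsg.Agent.Omega.MinPar Cfsg.Agent.Omega.Frame
open Cfsg.Agent.ZN.ChoiceSit (Syl)
open Cfsg.Agent.MinSimple.MinParabolic (IsMinPar)
open Cfsg.Agent.Omega.NO3S.Level
open Cfsg.Agent.Omega.Frame (Cls)
open Cfsg.Agent.Omega.OM
open Cfsg.Agent.Omega.OM.SWT (LV Ln ZT BT)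
open Cfsg.Agent.Omega.OM.LowT (LinH)
open Cfsg.Agent.Omega.NO3S.EThree.Frame (Bg)
open Cfsg.Agent.Omega.Node.MulX (MulL KX)
open Cfsg.Agent.Omega.NO3S.WY.Sel (Wd Mx FinP zc_B)

universe u

/-- **(LIN) at the stage `0`.** -/
theorem linOf {K : Cls.{u}} : LinOf K := by
  intro G _ _ _ S P B ZJ k L W Z C A hk hM hN j Y hw hx hj
  have hB := BT_top hM
  have hZ := ZT_top hM
  have hle : lev (S : Subgroup G) 0 ≤ o2 P := (lev_le_lim _ 0).trans hM.cl.lim_le
  have h1 := LowT.LinGen.linH_of (n := topL hM.cl) (Y := Y) (j := 0) (ln_top hM hk) rfl hM.cl.norm_o2_le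
    (hB.symm ▸ hw.syl) (hB.symm ▸ hw.par) hw.c2 (by rw [hB, zc_B hM]; exact hw.mv) hle
    (fun i hi => absurd hi (Nat.not_lt_zero i)) hj (by
      rw [hB, hZ]
      intro R' h1 h2 h3
      exact LowT.norm_or_lev hM hw hx hle hj h1 h2 h3)
  rwa [hB] at h1

/-- **`k = 2`.** -/
theorem lowEnd_two : LowEnd.{u} 2 := by
  intro G _ _ S P n L W Z C A hln hbg hall R hP hR hc j hj hlow hnj hlin
  by_contra hZ
  obtain ⟨K, N₁, c, τ, ht⟩ := LowT.TwoMain.exists_tor_j hln hR hP hc hZ hj hlow hnj hlin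
  obtain ⟨z, z1, z2, hr, hD⟩ := ht.exists_res hbg hZ (ht.le_V hlin)
  exact ht.not_loc hbg hall hZ (ht.le_V hlin) (hr.isLoc hD)

/-- **The finite stages.** -/
theorem finP {K : Cls.{u}} : FinP K := finP_two linOf OM.Lev.Low.TorusK.Done.torusOf lowEnd_two

end Cfsg.Agent.Omega.NO3S.WY.FinOf

end

section


/-!
# The infinite stage of `NoW`: the glue

* `TorOf K` : `MulL .. 2`, `WJ`, `Mx` give `TorP` ((ii) of #25080);
* `TorEnd K` : `TorP` is impossible (THEOREM TOR, #25011);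
* **`infP_of : TorOf K → TorEnd K → Sel.InfP K`**.
-/

set_option autoImplicit false
set_option linter.dupNamespace false

namespace Cfsg.Agent.Omega.NO3S.WY.InfOf

open Subgroup Cfsg Cfsg.Agent.ZN Cfsg.Agent.ZN.ChoiceBase
open Cfsg.Agent.Omega.Frame (Cls)
open Cfsg.Agent.Omega.Node.MultiOf
open Cfsg.Agent.Omega.Node.MulX (MulL KX)
open Cfsg.Agent.Omega.NO3S.WY.Sel (Mx InfP)

universe u

/-- **(TOR') from the maximal weird `Y` of the infinite stage** -/
def TorOf (K : Cls.{u}) : Prop :=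
  ∀ (G : Type u) [Group G] [Finite G], K G → ∀ (S : Sylow 2 G) (P B ZJ : Subgroup G) (k : ℕ)
    (L W Z C A : Fin k → Subgroup G), 2 ≤ k → MulL S P B ZJ L W Z C A 2 →
      NLoc (KX B ZJ (zl (S : Subgroup G) P)) → ∀ (j : Fin k) (Y : Subgroup G), WJ S P B Z j Y →
        Mx S P B ZJ Z Y → TorP S P B ZJ L W Z C A j Y

/-- **THEOREM TOR** -/
def TorEnd (K : Cls.{u}) : Prop :=
  ∀ (G : Type u) [Group G] [Finite G], K G → ∀ (S : Sylow 2 G) (P B ZJ : Subgroup G) (k : ℕ)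
    (L W Z C A : Fin k → Subgroup G), 2 ≤ k → ∀ (j : Fin k) (Y : Subgroup G), TorP S P B ZJ L W Z C A j Y → False

/-- **The infinite stage.** -/
theorem infP_of {K : Cls.{u}} (h1 : TorOf K) (h2 : TorEnd K) : InfP K := by
  intro G _ _ hK S P B ZJ k L W Z C A hk hM hN j Y hw hx
  exact h2 G hK S P B ZJ k L W Z C A hk j Y (h1 G hK S P B ZJ k L W Z C A hk hM hN j Y hw hx)

end Cfsg.Agent.Omega.NO3S.WY.InfOf

end

end
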